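import Cfsg.Agent.Lib.Known.PSpSemi.Field
import Cfsg.Agent.Lib.Known.BalanceCriterion
import Cfsg.Agent.Lib.Classical.PermModule
import Mathlib.GroupTheory.SpecificGroups.Alternating.Simple

/-!
# Outer automorphisms of prime order of `PSp`: the local balance criterion (owner: helper8)
-/

set_option autoImplicit false
set_option linter.unusedSectionVars false

open Matrix

namespace CfsgLib.Known.PSpSemi

open CfsgLib.Classical

theorem perm_six_no_core {p : ℕ} (hp : p.Prime) (h2 : p ≠ 2) (hdvd : p ∣ Nat.card (Equiv.Perm (Fin 6)))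
    (M : Subgroup (Equiv.Perm (Fin 6))) [M.Normal] (hM : ¬ p ∣ Nat.card M) : M = ⊥ := by
  haveI : IsSimpleGroup (alternatingGroup (Fin 6)) := alternatingGroup.isSimpleGroup (by simp)
  rcases (inferInstance : (M.subgroupOf (alternatingGroup (Fin 6))).Normal).eq_bot_or_eq_top with h | h
  · rw [Subgroup.subgroupOf_eq_bot, disjoint_iff] at h
    rw [eq_bot_iff]
    intro n hn
    rw [Subgroup.mem_bot]
    have hcomm : ∀ g : Equiv.Perm (Fin 6), g * n = n * g := fun g => by
      have h1 : g * n * g⁻¹ * n⁻¹ ∈ M ⊓ alternatingGroup (Fin 6) := Subgroup.mem_inf.2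
        ⟨mul_mem (‹M.Normal›.conj_mem n hn g) (inv_mem hn), Equiv.Perm.mem_alternatingGroup.2 (by
          rw [map_mul, map_mul, map_mul, map_inv, map_inv, mul_comm (Equiv.Perm.sign g), mul_inv_cancel_right,
            mul_inv_cancel])⟩
      rw [h, Subgroup.mem_bot] at h1
      calc g * n = g * n * g⁻¹ * n⁻¹ * (n * g) := by group
        _ = n * g := by rw [h1, one_mul]
    refine Equiv.ext fun a => ?_
    by_contra hne
    change n a ≠ a at hne
    obtain ⟨b, hba, hbn⟩ : ∃ b : Fin 6, b ≠ a ∧ b ≠ n a := by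
      by_contra hcon
      push Not at hcon
      have : (Finset.univ : Finset (Fin 6)) ⊆ {a, n a} := fun b _ => by
        rcases eq_or_ne b a with e | e
        · simp [e]
        · simp [hcon b e]
      exact absurd ((Finset.card_le_card this).trans Finset.card_le_two) (by simp)
    have e := congrArg (fun f => f b) (hcomm (Equiv.swap a b))
    simp only [Equiv.Perm.mul_apply, Equiv.swap_apply_right] at e
    rcases eq_or_ne (n b) a with h' | h'
    · rw [h', Equiv.swap_apply_left] at e; exact hbn e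
    rcases eq_or_ne (n b) b with h'' | h''
    · rw [h'', Equiv.swap_apply_right] at e; exact hne e.symm
    · rw [Equiv.swap_apply_of_ne_of_ne h' h''] at e; exact hba (n.injective e)
  · exfalso
    rw [Subgroup.subgroupOf_eq_top] at h
    refine hM (dvd_trans ?_ (Subgroup.card_dvd_of_le h))
    haveI : Nontrivial (Fin 6) := inferInstance
    have hA := two_mul_card_alternatingGroup (α := Fin 6)
    rw [← Nat.card_eq_fintype_card, ← Nat.card_eq_fintype_card] at hA
    rw [← hA] at hdvd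
    exact ((Nat.coprime_primes hp Nat.prime_two).2 h2).dvd_of_dvd_mul_left hdvd

variable {m : ℕ} {F : Type*} [Field F] [Fintype F]

local notation "Bf" => Symp.sympBil

/-- No nontrivial normal subgroup of `PSp` has order prime to a prime dividing `|PSp|`. -/
theorem psp_no_core (hm : 2 ≤ m) {p : ℕ} (hp : p.Prime) (hdvd : p ∣ Nat.card (PS m F))
    (h2 : Fintype.card F = 2 → p ≠ 2) (N : Subgroup (PS m F)) [N.Normal] (hN : ¬ p ∣ Nat.card N) : N = ⊥ := by
  classical
  by_cases hs : (2 ≤ m ∧ (2 : F) ≠ 0) ∨ 3 ≤ m ∨ ∃ a : F, a ≠ 0 ∧ a ^ 2 ≠ 1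
  · haveI := Symp.isSimpleGroup_psp (m := m) (F := F) (by omega) hs
    rcases ‹N.Normal›.eq_bot_or_eq_top with h | h
    · exact h
    · rw [h, Subgroup.card_top] at hN; exact absurd hdvd hN
  push Not at hs
  obtain ⟨h20, hm3, hsq⟩ := hs
  obtain rfl : m = 2 := by omega
  have hF : Fintype.card F = 2 := by
    refine le_antisymm ?_ Fintype.one_lt_card
    have : (Finset.univ : Finset F) ⊆ {0, 1} := fun a _ => by
      rcases eq_or_ne a 0 with e | e
      · simp [e]
      · have : (a - 1) ^ 2 = 0 := by linear_combination hsq a e + (1 - a) * h20 le_rfl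
        simp [sub_eq_zero.1 (pow_eq_zero_iff two_ne_zero |>.1 this)]
    exact (Finset.card_le_card this).trans Finset.card_le_two
  obtain ⟨e₀⟩ := symplectic_four_two_equiv hF
  have hq : Subgroup.center (SpG 2 F) = ⊥ := Subgroup.card_eq_one.1 (by
    rw [Symp.card_center_symplecticGroup (by norm_num), hF]; rfl)
  let e : PS 2 F ≃* Equiv.Perm (Fin 6) :=
    ((QuotientGroup.quotientMulEquivOfEq hq).trans QuotientGroup.quotientBot).trans e₀
  haveI : (N.map e.toMonoidHom).Normal := ‹N.Normal›.map _ e.surjective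
  have h := perm_six_no_core hp (h2 hF) (by rwa [← Nat.card_congr e.toEquiv]) (N.map e.toMonoidHom)
    (by rwa [Subgroup.card_map_of_injective e.injective])
  exact (Subgroup.map_eq_bot_iff_of_injective _ e.injective).1 h



/-- An automorphism fixing a transvection of `PSp₄(2^f)` is semilinear. -/
theorem mem_gamma_of_fix (hm : 2 ≤ m) (hsq : ∀ c : F, ∃ a : F, c = a ^ 2) (y : MulAut (PS m F))
    {e : Idx m → F} (he : e ≠ 0) (hy : y (P e 1) = P e 1) : y ∈ Cfsg.gammaPSp m F := by
  have key : ∀ y : MulAut (PS m F), y (P e 1) = P e 1 → ∀ {v : Idx m → F} {c : F}, v ≠ 0 → c ≠ 0 →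
      ∃ w d, w ≠ 0 ∧ d ≠ 0 ∧ y (AutPSp.T v c) = AutPSp.T w d := by
    intro y hy v c hv hc
    obtain ⟨a, rfl⟩ := hsq c
    have hav : a • v ≠ 0 := smul_ne_zero (fun h => hc (by rw [h]; ring)) hv
    obtain ⟨s, hs⟩ := AutPSp.exists_act_eq he hav
    obtain ⟨s', hs'⟩ := AutPSp.proj_surjective (y (AutPSp.proj m F s))
    refine ⟨AutPSp.act s' e, 1, AutPSp.act_ne_zero s' he, one_ne_zero, ?_⟩
    have hy' : y (AutPSp.T e 1) = AutPSp.T e 1 := hy
    rw [show AutPSp.T v (a ^ 2) = AutPSp.T (a • v) 1 by rw [AutPSp.T_smul, mul_one], ← hs,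
      ← AutPSp.conj_T, map_mul, map_mul, map_inv, hy', ← hs', AutPSp.conj_T]
  exact AutPSp.mem_gamma_of_presT hm ⟨key y hy, key y.symm (y.symm_apply_eq.2 hy.symm)⟩

/-! ### The data for a standard field automorphism -/

section Std

variable (σ : F ≃+* F)

/-- The fixed field. -/
abbrev fixF : Subfield F := σ.toRingHom.eqLocusField (RingHom.id F)

theorem mem_fixF (a : F) : σ a = a ↔ a ∈ (fixF σ).subtype.range :=
  ⟨fun h => ⟨⟨a, h⟩, rfl⟩, fun ⟨b, hb⟩ => hb ▸ b.2⟩

theorem fieldH_fix_P {v : Idx m → fixF σ} {a : fixF σ} :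
    fieldH m F σ (P ((fixF σ).subtype ∘ v) ((fixF σ).subtype a)) =
      P ((fixF σ).subtype ∘ v) ((fixF σ).subtype a) := by
  rw [fieldH_apply, pSemi_P 1 σ (c := 1) (fun u w => by simp)]
  congr 1
  · simp only [OneMemClass.coe_one, Units.val_one, one_mulVec]
    exact funext fun i => (v i).2
  · simp only [inv_one, Units.val_one, one_mul]
    exact a.2

theorem mem_zpowers_of_fix {p f : ℕ} [Fact p.Prime] {r : ℕ} [Fact r.Prime] (hF : Fintype.card F = r ^ f)
    (hf : 1 ≤ f) (hord : orderOf σ = p) (τ : F ≃+* F) (hτ : ∀ a : fixF σ, τ a = a) :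
    τ ∈ Subgroup.zpowers σ := by
  obtain ⟨hdvd, hL⟩ := AutPSL.exists_fixed_field hF hf σ hord
  have hfin : Module.finrank (fixF σ) F = p := by
    have h := Module.natCard_eq_pow_finrank (K := fixF σ) (V := F)
    rw [hL, ← pow_mul, Nat.card_eq_fintype_card, hF] at h
    have h2 := Nat.pow_right_injective (Fact.out : r.Prime).two_le h
    obtain ⟨d, hd⟩ := hdvd
    rw [hd, Nat.mul_div_cancel_left _ (Fact.out : p.Prime).pos, mul_comm p d] at h2
    exact (Nat.eq_of_mul_eq_mul_left (Nat.pos_of_ne_zero fun h0 => by simp [h0] at hd; omega) h2).symm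
  let φ : (F ≃ₐ[fixF σ] F) →* (F ≃+* F) :=
    { toFun := fun a => a.toRingEquiv, map_one' := rfl, map_mul' := fun _ _ => rfl }
  let σ' : F ≃ₐ[fixF σ] F := AlgEquiv.ofRingEquiv (f := σ) fun a => a.2
  let τ' : F ≃ₐ[fixF σ] F := AlgEquiv.ofRingEquiv (f := τ) hτ
  have hinj : Function.Injective φ := fun a b h => AlgEquiv.ext fun x => RingEquiv.congr_fun h x
  have hσ' : orderOf σ' = p := by rw [← orderOf_injective φ hinj]; exact hord
  have htop : Subgroup.zpowers σ' = ⊤ :=
    Subgroup.eq_top_of_card_eq _ (by rw [Nat.card_zpowers, hσ', IsGalois.card_aut_eq_finrank, hfin])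
  obtain ⟨i, hi⟩ := (htop ▸ Subgroup.mem_top τ' : τ' ∈ Subgroup.zpowers σ')
  exact ⟨i, by
    show σ ^ i = τ
    rw [show σ = φ σ' from rfl, ← map_zpow, show σ' ^ i = τ' from hi]; rfl⟩

/-- An automorphism fixing the transvections over the fixed field is a power of the field
automorphism. -/
theorem mem_zpowers_of_fix_P (hm : 2 ≤ m) {p f r : ℕ} [Fact p.Prime] [Fact r.Prime]
    (hF : Fintype.card F = r ^ f) (hf : 1 ≤ f) (hord : orderOf σ = p) (y : MulAut (PS m F))
    (hy : ∀ (v : Idx m → fixF σ) (a : fixF σ),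
      y (P ((fixF σ).subtype ∘ v) ((fixF σ).subtype a)) = P ((fixF σ).subtype ∘ v) ((fixF σ).subtype a)) :
    y ∈ Subgroup.zpowers (fieldH m F σ) := by
  have hγ : y ∈ Cfsg.gammaPSp m F := by
    by_cases hgood : m = 2 → (2 : F) ≠ 0
    · rw [AutPSp.gamma_eq_top hm hgood]; trivial
    push Not at hgood
    haveI : CharP F 2 := CharTwo.of_one_ne_zero_of_two_eq_zero one_ne_zero hgood.2
    refine mem_gamma_of_fix hm (fun c => ?_) y (e := Pi.single (Sum.inl ⟨0, by omega⟩) 1) (by simp) ?_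
    · obtain ⟨d, hd⟩ := FiniteField.isSquare_of_char_two (ringChar.eq F 2) c
      exact ⟨d, by rw [hd, sq]⟩
    · have := hy (Pi.single (Sum.inl ⟨0, by omega⟩) 1) 1
      rwa [single_comp, map_one] at this
  obtain ⟨g, τ, rfl⟩ := exists_pSemi_of_mem y hγ
  obtain ⟨c, hc⟩ := mem_GSp_iff.1 g.2
  have hline : ∀ v : Idx m → fixF σ, v ≠ 0 →
      ∃ k : F, mt g *ᵥ (τ ∘ ((fixF σ).subtype ∘ v)) = k • ((fixF σ).subtype ∘ v) := by
    intro v hv
    have h1 := hy v 1
    rw [pSemi_P g τ hc, map_one, map_one, mul_one] at h1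
    refine P_eq_line hm ?_ (Units.ne_zero _) h1.symm
    intro h0
    have h2 := congrArg (((g : GL (Idx m) F)⁻¹ : GL (Idx m) F) : Matrix (Idx m) (Idx m) F).mulVec h0
    rw [mulVec_mulVec, Units.inv_mul, one_mulVec, mulVec_zero] at h2
    exact hv (funext fun i => Subtype.ext (τ.injective (by simpa using congrFun h2 i)))
  have hsingle : ∀ i : Idx m, τ ∘ (Pi.single i 1 : Idx m → F) = Pi.single i 1 := fun i =>
    single_comp τ.toRingHom i
  choose k hk using fun i : Idx m => hline (Pi.single i 1) (by simp)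
  simp only [single_comp, hsingle] at hk
  have hpair : ∀ i l, i ≠ l → k i = k l := fun i l hil => by
    obtain ⟨x, hx⟩ := hline (Pi.single i 1 + Pi.single l 1) (fun h => by
      have := congrFun h i; simp [hil] at this)
    rw [show (fixF σ).subtype ∘ (Pi.single i 1 + Pi.single l 1 : Idx m → fixF σ) =
        (Pi.single i 1 : Idx m → F) + Pi.single l 1 from by
          rw [← single_comp (fixF σ).subtype i, ← single_comp (fixF σ).subtype l]
          exact funext fun q => map_add (fixF σ).subtype _ _,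
      show τ ∘ ((Pi.single i 1 : Idx m → F) + Pi.single l 1) = Pi.single i 1 + Pi.single l 1 from by
          rw [show τ ∘ ((Pi.single i 1 : Idx m → F) + Pi.single l 1) =
            τ ∘ (Pi.single i 1 : Idx m → F) + τ ∘ Pi.single l 1 from funext fun q => map_add τ _ _,
            hsingle, hsingle], mulVec_add, hk, hk] at hx
    have h1 := congrFun hx i
    have h2 := congrFun hx l
    simp [hil, hil.symm] at h1 h2
    rw [h1, h2]
  set o : Idx m := Sum.inl ⟨0, by omega⟩
  have hmt : mt g = k o • (1 : Matrix (Idx m) (Idx m) F) := eq_of_mulVec fun x => by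
    rw [smul_one_mulVec]
    conv_lhs => rw [sum_single_eq x]
    conv_rhs => rw [sum_single_eq x, Finset.smul_sum]
    rw [Matrix.mulVec_sum]
    refine Finset.sum_congr rfl fun i _ => ?_
    rw [mulVec_smul, hk, smul_comm]
    rcases eq_or_ne i o with e | e
    · rw [e]
    · rw [hpair i o e]
  have hy1 : pSemi g τ = fieldH m F τ := (pSemi_eq_iff hm _ _ _ _).2 ⟨rfl, k o, by
    show mt g = _
    rw [hmt]; simp⟩
  rw [hy1]
  obtain ⟨i, hi⟩ := mem_zpowers_of_fix σ hF hf hord τ fun a => by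
    have h1 := hy (Pi.single o 1) a
    rw [hy1, fieldH_apply, pSemi_P 1 τ (c := 1) (fun u w => by simp), single_comp, hsingle] at h1
    simp only [OneMemClass.coe_one, Units.val_one, one_mulVec, inv_one, one_mul] at h1
    exact AutPSp.T_inj hm (by simp : (Pi.single o 1 : Idx m → F) ≠ 0) h1
  exact ⟨i, by show fieldH m F σ ^ i = _; rw [← map_zpow, show σ ^ i = τ from hi]⟩

theorem psi_ofSp_tS {K : Type*} [Field K] [Fintype K] (j : K →+* F) (v : Idx m → K) (a : K) :
    psiHom j (ofSp (tS v a)) = ofSp (tS (j ∘ v) (j a)) := by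
  refine Subtype.ext (Units.ext (eq_of_mulVec fun x => ?_))
  show (mt (ofSp (tS v a))).map j *ᵥ x = (tS (j ∘ v) (j a) : Matrix (Idx m) (Idx m) F) *ᵥ x
  conv_lhs => rw [sum_single_eq x]
  conv_rhs => rw [sum_single_eq x]
  rw [Matrix.mulVec_sum, Matrix.mulVec_sum]
  refine Finset.sum_congr rfl fun i _ => ?_
  rw [mulVec_smul, mulVec_smul, ← single_comp j i, map_mulVec_hom, mt_ofSp, tS_mulVec, tS_mulVec,
    form_ringHom, ← map_mul]
  congr 1
  funext q
  simp

theorem field_data (hm : 2 ≤ m) {p f r : ℕ} [hp : Fact p.Prime] [hr : Fact r.Prime] (hpr : p ≠ r)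
    (hF : Fintype.card F = r ^ f) (hf : 1 ≤ f) (hord : orderOf σ = p) :
    Balance.Data p (fieldH m F σ) := by
  classical
  haveI : Fintype (fixF σ) := Fintype.ofFinite _
  have h1m : 1 ≤ m := by omega
  set j := (fixF σ).subtype
  set C := Cfsg.Inn (PS m F) ⊓ Subgroup.centralizer {fieldH m F σ} with hC
  have hc := center_psp (F := F) hm
  have hnot : fieldH m F σ ∉ (innD m F).range := by
    rintro ⟨g, hg⟩
    rw [innD_apply, fieldH_apply, pSemi_eq_iff hm] at hg
    rw [← hg.1, orderOf_one] at hord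
    exact hp.out.one_lt.ne hord
  have hPC : ∀ (v : Idx m → fixF σ) (a : fixF σ), MulAut.conj (P (j ∘ v) (j a)) ∈ C := fun v a =>
    Subgroup.mem_inf.2 ⟨⟨_, rfl⟩, Subgroup.mem_centralizer_singleton_iff.2
      ((Balance.fix_iff_commute hc _ _).1 (fieldH_fix_P σ))⟩
  refine ⟨fun h => hnot (inn_le h), fun h => ?_, fun y _ hy => ?_, ?_⟩
  · have := hPC (Pi.single (Sum.inl ⟨0, h1m⟩) 1) 1
    replace this := (Subgroup.mem_bot).1 ((le_of_eq h) this)
    refine P_ne_one hm (v := j ∘ Pi.single (Sum.inl ⟨0, h1m⟩) 1) ?_ (c := j 1) (by simp)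
      (Balance.conj_injective hc (this.trans (map_one _).symm))
    rw [single_comp]; simp
  · exact mem_zpowers_of_fix_P σ hm hF hf hord y fun v a =>
      (Balance.fix_iff_commute hc _ _).2 (hy _ (hPC v a))
  intro hdvd N hNC hNn hNp
  -- the copy of `PSp` over the fixed field
  let ω₀ : SpG m (fixF σ) →* MulAut (PS m F) :=
    ((innD m F).comp (psiHom j)).comp (MonoidHom.mk' ofSp fun _ _ => Subtype.ext (Units.ext rfl))
  have hker : ω₀.ker = Subgroup.center (SpG m (fixF σ)) := by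
    ext s
    rw [MonoidHom.mem_ker, mem_center_iff h1m]
    show innD m F (psiHom j (ofSp s)) = 1 ↔ _
    rw [innD_apply, pSemi_eq_one_iff hm]
    constructor
    · rintro ⟨-, c, hc'⟩
      have h1 : (s : Matrix (Idx m) (Idx m) (fixF σ)).map j = c • 1 := hc'
      set o : Idx m := Sum.inl ⟨0, h1m⟩
      refine ⟨(s : Matrix (Idx m) (Idx m) (fixF σ)) o o, ?_⟩
      ext p q
      have h2 : (s.1 o o : F) = c := by simpa [j] using congrFun₂ h1 o o
      have h3 : (s.1 p q : F) = c * (1 : Matrix (Idx m) (Idx m) F) p q := congrFun₂ h1 p q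
      rw [h3, ← h2]
      by_cases hpq : p = q <;> simp [hpq, Matrix.one_apply]
    · rintro ⟨c, hc'⟩
      refine ⟨rfl, j c, ?_⟩
      show (s : Matrix (Idx m) (Idx m) (fixF σ)).map j = j c • 1
      rw [hc']
      ext p q
      by_cases hpq : p = q <;> simp [hpq]
  let ω : PS m (fixF σ) →* MulAut (PS m F) := QuotientGroup.lift _ ω₀ hker.ge
  have hωinj : Function.Injective ω :=
    (injective_iff_map_eq_one _).2 fun x hx => by
      obtain ⟨s, rfl⟩ := QuotientGroup.mk'_surjective _ x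
      exact (QuotientGroup.eq_one_iff s).2 (hker ▸ (MonoidHom.mem_ker.2 hx))
  have hωP : ∀ v a, ω (pr (tS v a)) = MulAut.conj (P (j ∘ v) (j a)) := fun v a => by
    show innD m F (psiHom j (ofSp (tS v a))) = _
    rw [psi_ofSp_tS, P, conj_eq_innD]
  have hωC : ∀ x, ω x ∈ C := fun x => by
    obtain ⟨s, rfl⟩ := QuotientGroup.mk'_surjective _ x
    refine Subgroup.mem_inf.2 ⟨?_, Subgroup.mem_centralizer_singleton_iff.2 ?_⟩
    · obtain ⟨t, ht⟩ := exists_ofSp h1m (g := psiHom j (ofSp s)) (by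
        rw [multHom_psiHom, multHom_ofSp, map_one])
      show innD m F (psiHom j (ofSp s)) ∈ _
      rw [← ht, ← conj_eq_innD]
      exact ⟨pr t, rfl⟩
    · refine (innD_comm_iff hm σ _).2 ⟨1, ?_⟩
      rw [one_smul, mt_psiHom]
      exact Matrix.ext fun p q => (mem_fixF σ _).2 ⟨_, rfl⟩
  have hrep : ∀ c ∈ C, ∃ h : Cfsg.GSp m (fixF σ), c = innD m F (psiHom j h) := by
    intro c hc'
    obtain ⟨hc1, hc2⟩ := Subgroup.mem_inf.1 hc'
    obtain ⟨g, rfl⟩ := inn_le hc1
    obtain ⟨a, h, rfl⟩ := exists_descended hm σ j (mem_fixF σ) g (Subgroup.mem_centralizer_singleton_iff.1 hc2)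
    exact ⟨h, by rw [map_mul, innD_scalG hm, one_mul]⟩
  have hone : ∀ h : Cfsg.GSp m (fixF σ), multHom h1m h = 1 → innD m F (psiHom j h) ∈ ω.range :=
    fun h hh => by
      obtain ⟨s, rfl⟩ := exists_ofSp h1m hh
      exact ⟨pr s, rfl⟩
  have hωnorm : ∀ c ∈ C, ∀ x, c * ω x * c⁻¹ ∈ ω.range := fun c hc' x => by
    obtain ⟨h, rfl⟩ := hrep c hc'
    obtain ⟨s, rfl⟩ := QuotientGroup.mk'_surjective _ x
    show innD m F (psiHom j h) * innD m F (psiHom j (ofSp s)) * (innD m F (psiHom j h))⁻¹ ∈ _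
    rw [← map_mul, ← map_inv, ← map_mul, ← map_mul, ← map_inv, ← map_mul]
    exact hone _ (by simp [multHom_ofSp, mul_comm])
  have hcard : Nat.card ω.range = Nat.card (PS m (fixF σ)) :=
    (Nat.card_congr (MonoidHom.ofInjective hωinj).toEquiv).symm
  have hchar : p = 2 → (2 : F) ≠ 0 := fun h2 h0 => hpr (by
    haveI := AutPSL.charP_of_card hF hf
    exact h2.trans ((Nat.prime_dvd_prime_iff_eq hr.out Nat.prime_two).1
      ((CharP.cast_eq_zero_iff F r 2).1 (by simpa using h0))).symm)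
  have hdL : p ∣ Nat.card (PS m (fixF σ)) := by
    rcases hp.out.eq_two_or_odd' with h2 | hodd
    · -- even order
      have hodd : Fintype.card (fixF σ) % 2 = 1 := FiniteField.odd_card_of_char_ne_two fun h0 => by
        haveI := ringChar.of_eq h0
        refine hchar h2 ?_
        have h3 : (2 : fixF σ) = 0 := CharTwo.two_eq_zero
        have h4 := congrArg j h3
        rwa [map_ofNat, map_zero] at h4
      have hq := Symp.gcd_mul_card_psp (F := fixF σ) h1m
      set q := Fintype.card (fixF σ)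
      obtain ⟨w, rfl⟩ : ∃ w, m = w + 1 := ⟨m - 1, by omega⟩
      rw [Finset.prod_range_succ', Nat.gcd_eq_left (show 2 ∣ q - 1 by omega)] at hq
      have h4 : 4 ∣ q ^ (2 * (0 + 1)) - 1 := by
        obtain ⟨t, ht⟩ : ∃ t, q = 2 * t + 1 := ⟨q / 2, by omega⟩
        exact ⟨t * t + t, by
          rw [ht, show (2 * t + 1) ^ (2 * (0 + 1)) = 4 * (t * t + t) + 1 by ring, Nat.add_sub_cancel]⟩
      have h5 : 4 ∣ 2 * Nat.card (PS (w + 1) (fixF σ)) := hq ▸ Dvd.dvd.mul_left (Dvd.dvd.mul_left h4 _) _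
      rw [h2]
      omega
    · haveI : Finite (MulAut (PS m F)) := Finite.of_injective (fun a => (a : PS m F → PS m F)) DFunLike.coe_injective
      obtain ⟨⟨c, hc'⟩, hco⟩ := exists_prime_orderOf_dvd_card' p hdvd
      rw [← Subgroup.orderOf_coe] at hco
      obtain ⟨h, rfl⟩ := hrep c hc'
      have h2 : innD m F (psiHom j h) ^ 2 ∈ ω.range := by
        have := hone ((scalG (multHom h1m h))⁻¹ * h ^ 2) (by
          rw [map_mul, map_inv, map_pow, inv_mul_eq_one]
          exact multHom_eq h1m _ _ fun u v => by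
            rw [mt_scalG, smul_one_mulVec, smul_one_mulVec, map_smul, map_smul, LinearMap.smul_apply,
              smul_eq_mul, smul_eq_mul, Units.val_pow_eq_pow_val]
            ring)
        rw [map_mul, map_inv, map_pow, map_mul, map_inv, map_pow] at this
        have e : innD m F (psiHom j (scalG (multHom h1m h))) = 1 := by
          rw [innD_eq_one hm]
          refine ⟨Units.map (j : fixF σ →* F) (multHom h1m h), Subtype.ext (Units.ext ?_)⟩
          show (j (multHom h1m h : fixF σ)) • (1 : Matrix (Idx m) (Idx m) F) =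
            (((multHom h1m h : fixF σ) • (1 : Matrix (Idx m) (Idx m) (fixF σ)))).map j
          ext p q
          by_cases hpq : p = q <;> simp [hpq]
        rwa [e, inv_one, one_mul] at this
      obtain ⟨t, ht⟩ := hodd
      have h3 : innD m F (psiHom j h) ∈ ω.range := by
        have h4 := pow_mem h2 (t + 1)
        rwa [← pow_mul, show 2 * (t + 1) = p + 1 by omega, pow_succ, ← hco, pow_orderOf_eq_one, one_mul] at h4
      rw [← hcard, ← hco, ← Subgroup.orderOf_mk (innD m F (psiHom j h)) h3]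
      exact orderOf_dvd_natCard _
  haveI : (N.comap ω).Normal := ⟨fun x hx y => by
    rw [Subgroup.mem_comap, map_mul, map_mul, map_inv]
    exact hNn _ (hωC y) _ hx⟩
  have hbot : N.comap ω = ⊥ := psp_no_core hm hp.out hdL (fun hcard2 hp2 => by
    refine hchar hp2 ?_
    have h3 : ((Fintype.card (fixF σ) : ℕ) : fixF σ) = 0 := FiniteField.cast_card_eq_zero _
    rw [hcard2] at h3
    rw [Nat.cast_ofNat] at h3
    have h4 := congrArg j h3
    rwa [map_ofNat, map_zero] at h4) _ fun h => hNp (h.trans (by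
      rw [← Subgroup.card_map_of_injective hωinj]
      exact Subgroup.card_dvd_of_le (Subgroup.map_comap_le ω N)))
  rw [eq_bot_iff]
  intro n hn
  rw [Subgroup.mem_bot]
  have hfix : ∀ v a, n * MulAut.conj (P (j ∘ v) (j a)) = MulAut.conj (P (j ∘ v) (j a)) * n := fun v a => by
    rw [← hωP]
    obtain ⟨x, hx⟩ := hωnorm n (hNC hn) (pr (tS v a))
    have hmem : n * ω (pr (tS v a)) * n⁻¹ * (ω (pr (tS v a)))⁻¹ ∈ N := by
      rw [show n * ω (pr (tS v a)) * n⁻¹ * (ω (pr (tS v a)))⁻¹ =
        n * (ω (pr (tS v a)) * n⁻¹ * (ω (pr (tS v a)))⁻¹) by group]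
      exact mul_mem hn (hNn _ (hωC _) _ (inv_mem hn))
    rw [← hx, ← map_inv, ← map_mul] at hmem
    have h := Subgroup.mem_bot.1 (hbot ▸ (Subgroup.mem_comap.2 hmem))
    rw [mul_inv_eq_one] at h
    rw [h] at hx
    calc n * ω (pr (tS v a)) = n * ω (pr (tS v a)) * n⁻¹ * n := by group
      _ = _ := by rw [← hx]
  obtain ⟨i, hi⟩ := mem_zpowers_of_fix_P σ hm hF hf hord n fun v a =>
    (Balance.fix_iff_commute hc _ _).2 (hfix v a).symm
  by_contra hne
  refine hnot ((?_ : Subgroup.zpowers (fieldH m F σ) ≤ (innD m F).range) (Subgroup.mem_zpowers _))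
  have h1 : n ∈ (innD m F).range := inn_le (Subgroup.mem_inf.1 (hNC hn)).1
  have h2 : orderOf n = p := by
    have hz : orderOf (fieldH m F σ) = p := (orderOf_injective _ (fieldH_injective hm) σ).trans hord
    rcases (Nat.dvd_prime hp.out).1 (hz ▸ orderOf_dvd_of_mem_zpowers ⟨i, hi⟩) with h | h
    · exact absurd (orderOf_eq_one_iff.1 h) hne
    · exact h
  have hz : orderOf (fieldH m F σ) = p := (orderOf_injective _ (fieldH_injective hm) σ).trans hord
  haveI : Finite (MulAut (PS m F)) := Finite.of_injective (fun a => (a : PS m F → PS m F)) DFunLike.coe_injective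
  have h3 : Subgroup.zpowers n = Subgroup.zpowers (fieldH m F σ) :=
    Subgroup.eq_of_le_of_card_ge (Subgroup.zpowers_le.2 ⟨i, hi⟩) (by rw [Nat.card_zpowers, Nat.card_zpowers, h2, hz])
  rw [← h3]
  exact Subgroup.zpowers_le.2 h1

end Std

theorem isFieldAut_of_outer (hm : 2 ≤ m) {p f r : ℕ} [hp : Fact p.Prime] [hr : Fact r.Prime] (hpr : p ≠ r)
    (hF : Fintype.card F = r ^ f) (hf : 1 ≤ f) (x : MulAut (PS m F)) (hord : orderOf x = p)
    (hnot : x ∉ (innD m F).range) :
    ∃ (k : MulAut (PS m F)) (σ : F ≃+* F), orderOf σ = p ∧ k * fieldH m F σ * k⁻¹ = x := by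
  classical
  have hx : x ∈ Cfsg.gammaPSp m F := by
    by_cases hgood : m = 2 → (2 : F) ≠ 0
    · rw [AutPSp.gamma_eq_top hm hgood]; trivial
    push Not at hgood
    obtain ⟨rfl, h0⟩ := hgood
    haveI := AutPSL.charP_of_card hF hf
    obtain rfl : r = 2 := (Nat.prime_dvd_prime_iff_eq hr.out Nat.prime_two).1
      ((CharP.cast_eq_zero_iff F r 2).1 (by simpa using h0))
    haveI : Finite (MulAut (PS 2 F)) := Finite.of_injective (fun a => (a : PS 2 F → PS 2 F)) DFunLike.coe_injective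
    have hle : f * Nat.card (PS 2 F) ≤ Nat.card (Cfsg.gammaPSp 2 F) := by
      have h1 : Nat.card ((innD 2 F).range × (F ≃+* F)) ≤ Nat.card (Cfsg.gammaPSp 2 F) := by
        refine Nat.card_le_card_of_injective (fun p => (⟨p.1.1 * pSemi 1 p.2, ?_⟩ : Cfsg.gammaPSp 2 F)) ?_
        · obtain ⟨g, hg⟩ := p.1.2
          rw [← hg, ← pSemi_split]
          exact Subgroup.subset_closure ⟨g, p.2, g.2, (isInducedBySemilinear_iff g _ _).2 rfl⟩
        · rintro ⟨⟨_, g, rfl⟩, σ⟩ ⟨⟨_, h, rfl⟩, τ⟩ e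
          have e1 : innD 2 F g * pSemi 1 σ = innD 2 F h * pSemi 1 τ := congrArg Subtype.val e
          have e' := e1
          rw [← pSemi_split, ← pSemi_split, pSemi_eq_iff hm] at e'
          obtain ⟨rfl, -⟩ := e'
          exact Prod.ext (Subtype.ext (mul_right_cancel e1)) rfl
      rw [Nat.card_prod, card_range_innD hm, (AutPSL.card_ringAut hF hf).1] at h1
      have : 1 ≤ Nat.gcd 2 (Fintype.card F - 1) := Nat.gcd_pos_of_pos_left _ (by norm_num)
      nlinarith [Nat.zero_le (Nat.card (PS 2 F)), Nat.zero_le f]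
    have hA := card_mulAut_full hf hF hm
    rw [if_pos ⟨rfl, rfl⟩] at hA
    have hg1 : Nat.gcd 2 (2 ^ f - 1) = 1 := by
      refine (Nat.prime_two.coprime_iff_not_dvd.2 ?_).gcd_eq_one
      have h2 : 2 ∣ 2 ^ f := dvd_pow_self 2 (by omega)
      have := Nat.one_le_two_pow (n := f)
      omega
    rw [hg1, mul_one] at hA
    have hidx := (Cfsg.gammaPSp 2 F).card_mul_index
    rw [hA] at hidx
    have hpos : 0 < f * Nat.card (PS 2 F) := Nat.mul_pos hf Nat.card_pos
    have hi0 : (Cfsg.gammaPSp 2 F).index ≠ 0 := Subgroup.index_ne_zero_of_finite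
    have hi : (Cfsg.gammaPSp 2 F).index ≤ 2 := by
      by_contra hcon
      push Not at hcon
      nlinarith
    obtain ⟨t, ht⟩ := hp.out.odd_of_ne_two hpr
    have hsq : x ^ 2 ∈ Cfsg.gammaPSp 2 F := by
      interval_cases h : (Cfsg.gammaPSp 2 F).index
      · exact absurd rfl hi0
      · rw [Subgroup.index_eq_one.1 h]; trivial
      · exact Subgroup.sq_mem_of_index_two h x
    have := pow_mem hsq (t + 1)
    rwa [← pow_mul, show 2 * (t + 1) = p + 1 by omega, pow_succ, ← hord, pow_orderOf_eq_one, one_mul] at this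
  obtain ⟨g, σ, rfl⟩ := exists_pSemi_of_mem x hx
  have hσ : orderOf σ = p := by
    refine orderOf_eq_prime ?_ fun h1 => hnot ⟨g, by rw [innD_apply, h1]⟩
    obtain ⟨N, -, hN⟩ := pSemi_pow g σ p
    have h1 : pSemi g σ ^ p = 1 := hord ▸ pow_orderOf_eq_one _
    rw [hN, pSemi_eq_one_iff hm] at h1
    exact h1.1
  obtain ⟨k, -, hk⟩ := field_coset hm σ hp.out.pos hσ g (by
    rw [innD_mul_fieldH, ← hord, pow_orderOf_eq_one])
  exact ⟨k, σ, hσ, by rw [← hk, innD_mul_fieldH]⟩

theorem balance_criterion (hm : 2 ≤ m) {p r : ℕ} [hp : Fact p.Prime] [hr : Fact r.Prime] [CharP F r]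
    (hpr : p ≠ r) (A : Subgroup (MulAut (PS m F))) (hinn : ∀ k : PS m F, MulAut.conj k ∈ A)
    (x : MulAut (PS m F)) (hord : orderOf x = p) (hnot : ¬ Cfsg.IsInnerDiagonalAutPSp x) :
    Cfsg.pPrimeCore p ↥(A ⊓ Subgroup.centralizer {x}) ≠ ⊥ ↔ (Cfsg.IsFieldAutClassPSp x ∧
      Nat.Coprime p (Nat.card ↥(MonoidHom.eqLocus x.toMonoidHom (MonoidHom.id (PS m F))))) := by
  classical
  obtain ⟨n, -, hF⟩ := FiniteField.card F r
  have hnot' : x ∉ (innD m F).range := by
    rintro ⟨g, rfl⟩
    exact hnot ⟨g, g.2, (isInducedBySemilinear_iff g _ _).2 rfl⟩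
  obtain ⟨k, σ, hσ, hk⟩ := isFieldAut_of_outer hm hpr hF n.pos x hord hnot'
  have hfield : Cfsg.IsFieldAutClassPSp x := by
    refine ⟨k⁻¹, σ, fun h => ?_, (isStdFieldAut_iff σ _).2 ?_⟩
    · rw [h, show RingEquiv.refl F = (1 : F ≃+* F) from rfl, orderOf_one] at hσ
      exact hp.out.one_lt.ne hσ
    · rw [← hk, ← fieldH_apply]; group
  rw [and_iff_right hfield]
  exact Balance.criterion_of_conj (center_psp hm) hk hord (field_data σ hm hpr hF n.pos hσ) A hinn

end CfsgLib.Known.PSpSemi
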