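import Cfsg.Agent.Lib.Known.PSpSemi.Card
import Cfsg.Agent.Lib.Known.AutPSL.FieldCent
import Cfsg.Agent.Lib.Known.Descent

/-!
# Prime order field automorphisms of `PSp` (owner: helper8)
-/

set_option autoImplicit false
set_option linter.unusedSectionVars false

open Matrix

namespace CfsgLib.Known.PSpSemi

open CfsgLib.Classical

variable {m : ℕ} {F : Type*} [Field F]

local notation "Bf" => Symp.sympBil

/-- The standard field automorphisms. -/
def fieldH (m : ℕ) (F : Type*) [Field F] : (F ≃+* F) →* MulAut (PS m F) :=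
  MonoidHom.mk' (fun σ => pSemi 1 σ) fun σ τ => by rw [pSemi_mul, map_one, mul_one]

theorem fieldH_apply (σ : F ≃+* F) : fieldH m F σ = pSemi 1 σ := rfl

theorem fieldH_injective (hm : 2 ≤ m) : Function.Injective (fieldH m F) := fun _ _ h =>
  ((pSemi_eq_iff hm _ _ _ _).1 h).1

theorem innD_mul_fieldH (g : Cfsg.GSp m F) (σ : F ≃+* F) : innD m F g * fieldH m F σ = pSemi g σ :=
  (pSemi_split g σ).symm

theorem pSemi_pow (g : Cfsg.GSp m F) (σ : F ≃+* F) (k : ℕ) :
    ∃ N : Cfsg.GSp m F, mt N = Descent.normMat (mt g) σ k ∧ pSemi g σ ^ k = pSemi N (σ ^ k) := by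
  induction k with
  | zero => exact ⟨1, rfl, by rw [pow_zero, pow_zero, pSemi_one]⟩
  | succ k ih =>
    obtain ⟨N, hN, hp⟩ := ih
    refine ⟨g * gsMap σ N, ?_, by rw [pow_succ', hp, pSemi_mul, pow_succ' σ k]⟩
    show mt g * (mt N).map σ = _
    rw [hN]
    rfl

theorem bil_ext {B B' : LinearMap.BilinForm F (Idx m → F)}
    (h : ∀ i j, B (Pi.single i 1) (Pi.single j 1) = B' (Pi.single i 1) (Pi.single j 1)) : B = B' :=
  LinearMap.ext_basis (Pi.basisFun F (Idx m)) (Pi.basisFun F (Idx m)) fun i j => by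
    simpa [Pi.basisFun_apply] using h i j

/-- Being a similitude is checked on the standard basis. -/
theorem form_of_gram (M : Matrix (Idx m) (Idx m) F) (c : F)
    (h : ∀ i j, Bf m F (M *ᵥ Pi.single i 1) (M *ᵥ Pi.single j 1) =
      c * Bf m F (Pi.single i 1) (Pi.single j 1)) (u v : Idx m → F) :
    Bf m F (M *ᵥ u) (M *ᵥ v) = c * Bf m F u v := by
  have e : (Bf m F).comp (Matrix.toLin' M) (Matrix.toLin' M) = c • Bf m F :=
    bil_ext fun i j => by simpa [LinearMap.BilinForm.comp_apply] using h i j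
  simpa [LinearMap.BilinForm.comp_apply] using LinearMap.congr_fun (LinearMap.congr_fun e u) v

theorem sum_single_eq (u : Idx m → F) : u = ∑ i, u i • (Pi.single i 1 : Idx m → F) := by
  funext k
  simp [Pi.single_apply]

theorem form_gram (M : Matrix (Idx m) (Idx m) F) (u v : Idx m → F) :
    Bf m F (M *ᵥ u) (M *ᵥ v) =
      ∑ i, ∑ j, u i * Bf m F (M *ᵥ Pi.single i 1) (M *ᵥ Pi.single j 1) * v j := by
  conv_lhs => rw [sum_single_eq u, sum_single_eq v]
  simp only [Matrix.mulVec_sum, Matrix.mulVec_smul, map_sum, map_smul, LinearMap.sum_apply,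
    LinearMap.smul_apply, smul_eq_mul, Finset.mul_sum]
  rw [Finset.sum_comm]
  exact Finset.sum_congr rfl fun i _ => Finset.sum_congr rfl fun j _ => by ring

theorem form_ringHom {K : Type*} [Field K] (j : K →+* F) (u v : Idx m → K) :
    Bf m F (j ∘ u) (j ∘ v) = j (Bf m K u v) := by
  simp [form_expand, map_sum, map_sub, map_mul]

theorem single_comp {K : Type*} [Field K] (j : K →+* F) (i : Idx m) :
    j ∘ (Pi.single i 1 : Idx m → K) = Pi.single i 1 :=
  funext fun k => by by_cases hk : k = i <;> simp [Pi.single_apply, hk]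

theorem map_mulVec_hom {K : Type*} [Field K] (j : K →+* F) (M : Matrix (Idx m) (Idx m) K)
    (u : Idx m → K) : M.map j *ᵥ (j ∘ u) = j ∘ (M *ᵥ u) :=
  funext fun i => (RingHom.map_mulVec j M u i).symm

/-- A basis change `h` with `g σ(h) = t h` can be chosen to be a similitude. -/
theorem exists_similitude_of_descent [Finite F] (hm : 1 ≤ m) (σ : F ≃+* F) (g : Cfsg.GSp m F)
    (h : GL (Idx m) F) (t : Fˣ)
    (hk : mt g * (h : Matrix (Idx m) (Idx m) F).map σ = (t : F) • (h : Matrix (Idx m) (Idx m) F)) :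
    ∃ k : Cfsg.GSp m F, mt g * (mt k).map σ = (t : F) • mt k := by
  classical
  haveI := Fintype.ofFinite F
  set H := (h : Matrix (Idx m) (Idx m) F) with hH
  obtain ⟨c, hc⟩ := mem_GSp_iff.1 g.2
  set A : Idx m → Idx m → F := fun i j => Bf m F (H *ᵥ Pi.single i 1) (H *ᵥ Pi.single j 1) with hA
  have hσA : ∀ i j, (c : F) * σ (A i j) = (t : F) ^ 2 * A i j := fun i j => by
    have e : ∀ v : Idx m → F, mt g *ᵥ (σ ∘ (H *ᵥ v)) = (t : F) • (H *ᵥ (σ ∘ v)) := fun v => by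
      rw [← map_mulVec_comp, mulVec_mulVec, hk, smul_mulVec]
    have e' : ∀ i : Idx m, σ ∘ (Pi.single i 1 : Idx m → F) = Pi.single i 1 := fun i =>
      single_comp σ.toRingHom i
    have h1 := hc (σ ∘ (H *ᵥ Pi.single i 1)) (σ ∘ (H *ᵥ Pi.single j 1))
    rw [e, e, e', e', form_comp, map_smul, map_smul, LinearMap.smul_apply, smul_eq_mul, smul_eq_mul] at h1
    simp only [hA]
    linear_combination -h1
  have hAne : ∃ i j, A i j ≠ 0 := by
    by_contra hcon
    push Not at hcon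
    have h0 : ∀ u v, Bf m F (H *ᵥ u) (H *ᵥ v) = 0 := fun u v => by
      rw [form_gram]
      exact Finset.sum_eq_zero fun i _ => Finset.sum_eq_zero fun j _ => by
        rw [show Bf m F (H *ᵥ Pi.single i 1) (H *ᵥ Pi.single j 1) = 0 from hcon i j, mul_zero, zero_mul]
    have h1 := h0 (((h⁻¹ : GL (Idx m) F) : Matrix (Idx m) (Idx m) F) *ᵥ eJ ⟨0, hm⟩)
      (((h⁻¹ : GL (Idx m) F) : Matrix (Idx m) (Idx m) F) *ᵥ eI ⟨0, hm⟩)
    rw [mulVec_mulVec, mulVec_mulVec, hH, Units.mul_inv, one_mulVec, one_mulVec, form_eJ0_eI0 hm] at h1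
    exact one_ne_zero h1
  obtain ⟨i₀, j₀, ha⟩ := hAne
  set a := A i₀ j₀ with ha'
  have hσa : σ a ≠ 0 := by simpa using ha
  set L := σ.toRingHom.eqLocusField (RingHom.id F) with hL
  have hfix : ∀ i j, A i j / a ∈ L := fun i j => by
    show σ (A i j / a) = A i j / a
    rw [map_div₀, div_eq_div_iff hσa ha]
    refine mul_left_cancel₀ c.ne_zero ?_
    linear_combination a * hσA i j - A i j * hσA i₀ j₀
  set ι : L →+* F := L.subtype
  let α : Matrix (Idx m) (Idx m) L := Matrix.of fun i j => ⟨A i j / a, hfix i j⟩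
  let B₀ : LinearMap.BilinForm L (Idx m → L) := Matrix.toBilin' α
  have hB₀ : ∀ x y : Idx m → L, Bf m F (H *ᵥ (ι ∘ x)) (H *ᵥ (ι ∘ y)) = a * ι (B₀ x y) := fun x y => by
    rw [form_gram]
    simp only [B₀, Matrix.toBilin'_apply, map_sum, map_mul, Finset.mul_sum]
    refine Finset.sum_congr rfl fun i _ => Finset.sum_congr rfl fun j _ => ?_
    show ι (x i) * A i j * ι (y j) = a * (ι (x i) * (A i j / a) * ι (y j))
    field_simp
  have hAlt : B₀.IsAlt := fun x => by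
    have := hB₀ x x
    rw [form_self] at this
    exact ι.injective (by rw [map_zero]; exact (mul_eq_zero.1 this.symm).resolve_left ha)
  have hsep : ∀ x, (∀ y, B₀ x y = 0) → x = 0 := fun x hx => by
    have h0 : ∀ v, Bf m F (H *ᵥ (ι ∘ x)) (H *ᵥ v) = 0 := fun v => by
      conv_lhs => rw [sum_single_eq v]
      simp only [Matrix.mulVec_sum, Matrix.mulVec_smul, map_sum, map_smul]
      refine Finset.sum_eq_zero fun j _ => ?_
      rw [← single_comp ι j, hB₀, hx, map_zero, mul_zero, smul_zero]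
    have h1 : H *ᵥ (ι ∘ x) = 0 := (Symp.sympBil_nondegenerate m F).1 _ fun y => by
      have := h0 (((h⁻¹ : GL (Idx m) F) : Matrix (Idx m) (Idx m) F) *ᵥ y)
      rwa [mulVec_mulVec, hH, Units.mul_inv, one_mulVec] at this
    have h2 : ι ∘ x = 0 := by
      have := congrArg (((h⁻¹ : GL (Idx m) F) : Matrix (Idx m) (Idx m) F).mulVec) h1
      rwa [mulVec_mulVec, hH, Units.inv_mul, one_mulVec, mulVec_zero] at this
    exact funext fun i => ι.injective (by simpa using congrFun h2 i)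
  have hnd : B₀.Nondegenerate := ⟨hsep, fun x hx => hsep x fun y => by
    rw [Symp.swap hAlt y x, hx, neg_zero]⟩
  obtain ⟨e, he⟩ := Symp.exists_isometry (Symp.sympBil_isAlt m L) (Symp.sympBil_nondegenerate m L)
    hAlt hnd rfl
  let K : Matrix (Idx m) (Idx m) L := Matrix.of fun r i => e (Pi.single i 1) r
  have hcol : ∀ i, (H * K.map ι) *ᵥ Pi.single i 1 = H *ᵥ (ι ∘ e (Pi.single i 1)) := fun i => by
    rw [← mulVec_mulVec]
    congr 1
    funext r
    simp [K, mulVec_single_one]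
  have hgram := form_of_gram (H * K.map ι) a fun i j => by
    rw [hcol, hcol, hB₀, he, ← form_ringHom ι, single_comp, single_comp]
  have hdet : (H * K.map ι).det ≠ 0 := by
    intro h0
    obtain ⟨v, hv, hv0⟩ := Matrix.exists_mulVec_eq_zero_iff.2 h0
    refine hv ((Symp.sympBil_nondegenerate m F).1 v fun y => ?_)
    have := hgram v y
    rw [hv0, map_zero, LinearMap.zero_apply] at this
    exact (mul_eq_zero.1 this.symm).resolve_left ha
  let k : GL (Idx m) F := GeneralLinearGroup.mkOfDetNeZero (H * K.map ι) hdet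
  refine ⟨⟨k, mem_GSp_iff.2 ⟨Units.mk0 a ha, hgram⟩⟩, ?_⟩
  show mt g * (H * K.map ι).map σ = (t : F) • (H * K.map ι)
  have hKσ : (K.map ι).map σ = K.map ι := Matrix.ext fun i j => (K i j).2
  rw [Matrix.map_mul, hKσ, ← mul_assoc, hk, Matrix.smul_mul]

variable [Fintype F]

theorem innD_range_normal (hm : 2 ≤ m) : ((innD m F).range).Normal := by
  by_cases hgood : m = 2 → (2 : F) ≠ 0
  · refine ⟨?_⟩
    rintro _ ⟨g, rfl⟩ α
    obtain ⟨h, τ, rfl⟩ := exists_eq_pSemi hm hgood α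
    refine ⟨h * gsMap τ g * h⁻¹, ?_⟩
    rw [eq_mul_inv_iff_mul_eq, innD_apply, innD_apply, pSemi_mul, pSemi_mul, gsMap_one, one_mul,
      mul_one, inv_mul_cancel_right]
  · push Not at hgood
    obtain ⟨-, h2⟩ := hgood
    haveI : CharP F 2 := CharTwo.of_one_ne_zero_of_two_eq_zero one_ne_zero h2
    suffices h : (innD m F).range = Cfsg.Inn (PS m F) by rw [h]; exact AutPSL.inn_normal _
    refine le_antisymm ?_ inn_le
    rintro _ ⟨g, rfl⟩
    obtain ⟨d, hd⟩ := FiniteField.isSquare_of_char_two (ringChar.eq F 2)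
      (multHom (by omega : 1 ≤ m) g : F)
    have hd0 : d ≠ 0 := fun h0 => (multHom (by omega : 1 ≤ m) g).ne_zero (by rw [hd, h0, mul_zero])
    have h1 : multHom (by omega : 1 ≤ m) ((scalG (Units.mk0 d hd0))⁻¹ * g) = 1 := by
      rw [map_mul, map_inv, inv_mul_eq_one]
      refine multHom_eq (by omega) _ _ fun u v => ?_
      rw [mt_scalG, smul_one_mulVec, smul_one_mulVec, map_smul, map_smul, LinearMap.smul_apply,
        smul_eq_mul, smul_eq_mul, hd, Units.val_mk0, mul_assoc]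
    obtain ⟨s, hs⟩ := exists_ofSp (by omega) h1
    refine ⟨pr s, ?_⟩
    rw [conj_eq_innD, hs, map_mul, map_inv, innD_scalG hm, inv_one, one_mul]

theorem exists_conj_fieldH {x : MulAut (PS m F)} (hx : Cfsg.IsFieldAutClassPSp x) :
    ∃ (α : MulAut (PS m F)) (σ : F ≃+* F), α * x * α⁻¹ = fieldH m F σ := by
  obtain ⟨α, σ, -, h⟩ := hx
  exact ⟨α, σ, (isStdFieldAut_iff σ _).1 h⟩

theorem orderOf_sigma (hm : 2 ≤ m) {x α : MulAut (PS m F)} {σ : F ≃+* F}
    (hz : α * x * α⁻¹ = fieldH m F σ) {r : ℕ} (hxr : orderOf x = r) : orderOf σ = r := by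
  rw [← orderOf_injective (fieldH m F) (fieldH_injective hm) σ, ← hz]
  exact ((MulAut.conj α).orderOf_eq x).trans hxr

theorem field_coset (hm : 2 ≤ m) (σ : F ≃+* F) {r : ℕ} (hr : 0 < r) (hσ : orderOf σ = r)
    (g : Cfsg.GSp m F) (h : (innD m F g * fieldH m F σ) ^ r = 1) :
    Cfsg.IsConjUnder (innD m F).range (fieldH m F σ) (innD m F g * fieldH m F σ) := by
  haveI : Nonempty (Idx m) := ⟨Sum.inl ⟨0, by omega⟩⟩
  obtain ⟨N, hN, hp⟩ := pSemi_pow g σ r
  rw [innD_mul_fieldH, hp, pSemi_eq_one_iff hm] at h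
  obtain ⟨-, c, hc⟩ := h
  obtain ⟨h', t, hk⟩ := Descent.exists_conj_of_norm_scalar σ hσ hr (g : GL (Idx m) F) (c := c)
    (hN.symm.trans hc)
  obtain ⟨k, hk'⟩ := exists_similitude_of_descent (by omega) σ g h' t hk
  refine ⟨innD m F k, ⟨k, rfl⟩, ?_⟩
  rw [eq_mul_inv_iff_mul_eq, innD_mul_fieldH, innD_mul_fieldH, innD_apply, pSemi_mul, mul_one,
    pSemi_eq_iff hm]
  exact ⟨rfl, t, hk'⟩

theorem orderOf_coset_iff (hm : 2 ≤ m) {x δ : MulAut (PS m F)} (hx : Cfsg.IsFieldAutClassPSp x)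
    {r : ℕ} (hr : r.Prime) (hxr : orderOf x = r) (hδ : δ ∈ (innD m F).range) :
    orderOf (δ * x) = r ↔ Cfsg.IsConjUnder (innD m F).range x (δ * x) := by
  haveI := innD_range_normal (F := F) hm
  constructor
  · intro ho
    obtain ⟨α, σ, hz⟩ := exists_conj_fieldH hx
    obtain ⟨g, hg⟩ := (innD_range_normal (F := F) hm).conj_mem δ hδ α
    have he : α * (δ * x) * α⁻¹ = innD m F g * fieldH m F σ := by rw [hg, ← hz]; group
    rw [← ClassSplit.isConjUnder_conj_iff _ α, he, hz]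
    refine field_coset hm σ hr.pos (orderOf_sigma hm hz hxr) g ?_
    rw [← he, show α * (δ * x) * α⁻¹ = MulAut.conj α (δ * x) from rfl, ← map_pow, ← ho,
      pow_orderOf_eq_one, map_one]
  · rintro ⟨k, -, hk⟩
    rw [hk, ← hxr]
    exact (MulAut.conj k).orderOf_eq x

/-! ### The centraliser -/

theorem innD_comm_iff (hm : 2 ≤ m) (σ : F ≃+* F) (g : Cfsg.GSp m F) :
    innD m F g * fieldH m F σ = fieldH m F σ * innD m F g ↔
      ∃ c : F, (mt g).map σ = c • mt g := by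
  rw [innD_mul_fieldH, fieldH_apply, innD_apply, pSemi_mul, one_mul, mul_one, eq_comm, pSemi_eq_iff hm]
  exact ⟨fun h => h.2, fun h => ⟨rfl, h⟩⟩

theorem gsp_map_mem {F₀ : Type*} [Field F₀] (j : F₀ →+* F) {g : GL (Idx m) F₀}
    (hg : g ∈ Cfsg.GSp m F₀) :
    GeneralLinearGroup.map j g ∈ Cfsg.GSp m F := by
  obtain ⟨c, hc⟩ := mem_GSp_iff.1 hg
  refine mem_GSp_iff.2 ⟨Units.map (j : F₀ →* F) c, form_of_gram _ _ fun i k => ?_⟩
  show Bf m F ((g : Matrix (Idx m) (Idx m) F₀).map j *ᵥ Pi.single i 1)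
    ((g : Matrix (Idx m) (Idx m) F₀).map j *ᵥ Pi.single k 1) = j c * _
  rw [← single_comp j i, ← single_comp j k, map_mulVec_hom, map_mulVec_hom, form_ringHom, hc,
    map_mul, ← form_ringHom]

/-- Extension of scalars for similitudes. -/
def psiHom {F₀ : Type*} [Field F₀] (j : F₀ →+* F) : ↥(Cfsg.GSp m F₀) →* ↥(Cfsg.GSp m F) :=
  ((GeneralLinearGroup.map j).comp (Cfsg.GSp m F₀).subtype).codRestrict _ fun g => gsp_map_mem j g.2

theorem mt_psiHom {F₀ : Type*} [Field F₀] (j : F₀ →+* F) (g : Cfsg.GSp m F₀) :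
    mt (psiHom j g) = (mt g).map j := rfl

theorem multHom_psiHom {F₀ : Type*} [Field F₀] [Fintype F₀] (hm : 1 ≤ m) (j : F₀ →+* F)
    (g : Cfsg.GSp m F₀) : multHom hm (psiHom j g) = Units.map (j : F₀ →* F) (multHom hm g) := by
  refine multHom_eq hm _ _ (form_of_gram _ _ fun i k => ?_)
  rw [mt_psiHom, ← single_comp j i, ← single_comp j k, map_mulVec_hom, map_mulVec_hom, form_ringHom,
    multHom_spec hm, map_mul, ← form_ringHom]
  rfl

theorem exists_descended (hm : 2 ≤ m) (σ : F ≃+* F) {F₀ : Type*} [Field F₀] (j : F₀ →+* F)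
    (hj : ∀ a : F, σ a = a ↔ a ∈ j.range) (g : Cfsg.GSp m F)
    (hg : innD m F g * fieldH m F σ = fieldH m F σ * innD m F g) :
    ∃ (a : Fˣ) (h : Cfsg.GSp m F₀), g = scalG a * psiHom j h := by
  classical
  obtain ⟨c, hc⟩ := (innD_comm_iff hm σ g).1 hg
  haveI : Nonempty (Idx m) := ⟨Sum.inl ⟨0, by omega⟩⟩
  obtain ⟨i₀, k₀, hik⟩ : ∃ i k, mt g i k ≠ 0 := by
    by_contra hcon
    push Not at hcon
    exact (g : GL (Idx m) F).ne_zero (Matrix.ext hcon)
  set a := mt g i₀ k₀ with ha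
  have hca : σ a = c * a := congrFun₂ hc i₀ k₀
  have hc0 : c ≠ 0 := fun h => by rw [h, zero_mul, map_eq_zero] at hca; exact hik hca
  have hfix : ∀ u v, mt g u v / a ∈ j.range := fun u v => by
    rw [← hj, map_div₀, hca, show σ (mt g u v) = _ from congrFun₂ hc u v, Matrix.smul_apply,
      smul_eq_mul, mul_div_mul_left _ _ hc0]
  choose M hM using hfix
  have hmap : (Matrix.of M).map j = a⁻¹ • mt g := by
    ext u v; simp [hM, div_eq_inv_mul]
  have hdet : (Matrix.of M).det ≠ 0 := by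
    rw [← map_ne_zero j, RingHom.map_det]
    show ((Matrix.of M).map j).det ≠ 0
    rw [hmap, Matrix.det_smul]
    exact mul_ne_zero (pow_ne_zero _ (inv_ne_zero hik)) (GeneralLinearGroup.det (g : GL (Idx m) F)).ne_zero
  obtain ⟨μ, hμ⟩ := mem_GSp_iff.1 g.2
  set u₀ : Idx m → F₀ := Matrix.of M *ᵥ eJ ⟨0, by omega⟩
  set v₀ : Idx m → F₀ := Matrix.of M *ᵥ eI ⟨0, by omega⟩
  set c₀ := Bf m F₀ u₀ v₀
  have hform : ∀ p q, j (Bf m F₀ (Matrix.of M *ᵥ Pi.single p 1) (Matrix.of M *ᵥ Pi.single q 1)) =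
      a⁻¹ * a⁻¹ * μ * Bf m F (Pi.single p 1) (Pi.single q 1) := fun p q => by
    rw [← form_ringHom, ← map_mulVec_hom, ← map_mulVec_hom, single_comp, single_comp, hmap,
      smul_mulVec, smul_mulVec, map_smul, map_smul, LinearMap.smul_apply, smul_eq_mul, smul_eq_mul, hμ]
    ring
  have hc₀ : j c₀ = a⁻¹ * a⁻¹ * μ := by
    have := hform (Sum.inr ⟨0, by omega⟩) (Sum.inl ⟨0, by omega⟩)
    rwa [show Bf m F (Pi.single (Sum.inr (⟨0, by omega⟩ : Fin m)) 1)
      (Pi.single (Sum.inl (⟨0, by omega⟩ : Fin m)) 1) = 1 from form_eJ0_eI0 (by omega), mul_one] at this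
  have hc₀0 : c₀ ≠ 0 := fun h => by
    rw [h, map_zero] at hc₀
    exact mul_ne_zero (mul_ne_zero (inv_ne_zero hik) (inv_ne_zero hik)) μ.ne_zero hc₀.symm
  have hmem : GeneralLinearGroup.mkOfDetNeZero (Matrix.of M) hdet ∈ Cfsg.GSp m F₀ :=
    mem_GSp_iff.2 ⟨Units.mk0 c₀ hc₀0, form_of_gram (Matrix.of M) c₀ fun p q => j.injective (by
      rw [hform, map_mul, hc₀, ← form_ringHom, single_comp, single_comp])⟩
  refine ⟨Units.mk0 a hik, ⟨_, hmem⟩, Subtype.ext (Units.ext ?_)⟩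
  show mt g = (a • 1 : Matrix (Idx m) (Idx m) F) * (Matrix.of M).map j
  rw [hmap, Matrix.smul_mul, one_mul, smul_inv_smul₀ hik]

theorem nonempty_centralizer (hm : 2 ≤ m) (σ : F ≃+* F) {F₀ : Type*} [Field F₀] [Fintype F₀]
    (j : F₀ →+* F) (hj : ∀ a : F, σ a = a ↔ a ∈ j.range) :
    Nonempty (↥((innD m F).range ⊓ Subgroup.centralizer {fieldH m F σ}) ≃* Cfsg.PGSp m F₀) := by
  let Φ : ↥(Cfsg.GSp m F₀) →* ↥((innD m F).range ⊓ Subgroup.centralizer {fieldH m F σ}) :=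
    ((innD m F).comp (psiHom j)).codRestrict _ fun h =>
      ⟨⟨psiHom j h, rfl⟩, Subgroup.mem_centralizer_singleton_iff.2 ((innD_comm_iff hm σ _).2 ⟨1, by
        rw [one_smul, mt_psiHom]
        exact Matrix.ext fun p q => (hj _).2 ⟨_, rfl⟩⟩)⟩
  have hΦ : Function.Surjective Φ := by
    rintro ⟨β, hβ, hc⟩
    obtain ⟨g, rfl⟩ := hβ
    obtain ⟨a, h, rfl⟩ := exists_descended hm σ j hj g (Subgroup.mem_centralizer_singleton_iff.1 hc)
    exact ⟨h, Subtype.ext (by
      show innD m F (psiHom j h) = innD m F (scalG a * psiHom j h)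
      rw [map_mul, innD_scalG hm, one_mul])⟩
  have hk : Φ.ker = (Cfsg.Geo.scalars (Idx m) F₀).subgroupOf (Cfsg.GSp m F₀) := by
    ext h
    rw [MonoidHom.mem_ker, ← Subtype.coe_inj, Subgroup.mem_subgroupOf, Cfsg.Geo.mem_scalars_iff]
    show innD m F (psiHom j h) = 1 ↔ _
    rw [innD_eq_one hm]
    constructor
    · rintro ⟨c, hc⟩
      have h1 : (mt h).map j = (c : F) • 1 := by rw [← mt_psiHom, ← hc, mt_scalG]
      set k : Idx m := Sum.inl ⟨0, by omega⟩
      have h2 : j (mt h k k) = c := by simpa using congrFun₂ h1 k k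
      refine ⟨Units.mk0 (mt h k k) fun h0 => c.ne_zero (by rw [← h2, h0, map_zero]), ?_⟩
      ext p q
      apply j.injective
      have h3 := congrFun₂ h1 p q
      simp only [Matrix.map_apply] at h3
      rw [h3, Matrix.smul_apply, Matrix.smul_apply, smul_eq_mul, smul_eq_mul, map_mul, Units.val_mk0, h2]
      by_cases hpq : p = q <;> simp [hpq, Matrix.one_apply]
    · rintro ⟨c, hc⟩
      refine ⟨Units.map (j : F₀ →* F) c, Subtype.ext (Units.ext ?_)⟩
      show (j c) • (1 : Matrix (Idx m) (Idx m) F) = (mt h).map j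
      rw [show mt h = _ from hc]
      ext p q
      by_cases hpq : p = q <;> simp [hpq]
  exact ⟨((QuotientGroup.quotientMulEquivOfEq hk.symm).trans
    (QuotientGroup.quotientKerEquivOfSurjective Φ hΦ)).symm⟩

theorem splitClassCount_fieldH (hm : 2 ≤ m) (σ : F ≃+* F) {F₀ : Type*} [Field F₀] [Fintype F₀]
    (j : F₀ →+* F) (hj : ∀ a : F, σ a = a ↔ a ∈ j.range) :
    Cfsg.splitClassCount (innD m F).range (Cfsg.Inn (PS m F)) (fieldH m F σ) =
      ((Units.map (j : F₀ →* F)).range ⊔ (powMonoidHom 2 : Fˣ →* Fˣ).range).index := by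
  have h1 : 1 ≤ m := by omega
  haveI : (Cfsg.Inn (PS m F)).Normal := AutPSL.inn_normal _
  rw [ClassSplit.splitClassCount_eq_index (innD m F) _ inn_le]
  have hsq : ∀ a : Fˣ, multHom h1 (scalG a) = a ^ 2 := fun a =>
    multHom_eq h1 _ _ fun u v => by
      rw [mt_scalG, smul_one_mulVec, smul_one_mulVec, map_smul, map_smul, LinearMap.smul_apply,
        smul_eq_mul, smul_eq_mul, Units.val_pow_eq_pow_val]
      ring
  have hker : (multHom (F := F) h1).ker ≤ (Cfsg.Inn (PS m F)).comap (innD m F) := fun g hg => by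
    obtain ⟨s, rfl⟩ := exists_ofSp h1 hg
    exact ⟨pr s, conj_eq_innD s⟩
  rw [ClassSplit.index_eq_index_map (multHom h1) (multHom_surjective h1) _ (hker.trans le_sup_left),
    Subgroup.map_sup]
  congr 1
  refine le_antisymm (sup_le ?_ ?_) (sup_le ?_ ?_)
  · rintro _ ⟨g, ⟨y, hy⟩, rfl⟩
    obtain ⟨s, rfl⟩ := QuotientGroup.mk'_surjective _ y
    have e : innD m F (g * (ofSp s)⁻¹) = 1 := by
      rw [map_mul, map_inv, ← conj_eq_innD, mul_inv_eq_one]
      exact hy.symm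
    obtain ⟨a, ha⟩ := (innD_eq_one hm _).1 e
    refine Subgroup.mem_sup_right ⟨a, ?_⟩
    have := congrArg (multHom h1) ha
    rw [hsq, map_mul, map_inv, multHom_ofSp, inv_one, mul_one] at this
    exact this
  · rintro _ ⟨g, hg, rfl⟩
    obtain ⟨a, h, rfl⟩ := exists_descended hm σ j hj g (Subgroup.mem_centralizer_singleton_iff.1 hg)
    rw [map_mul, hsq, multHom_psiHom]
    exact Subgroup.mul_mem _ (Subgroup.mem_sup_right ⟨a, rfl⟩) (Subgroup.mem_sup_left ⟨_, rfl⟩)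
  · rintro _ ⟨u, rfl⟩
    obtain ⟨h, rfl⟩ := multHom_surjective (F := F₀) h1 u
    refine Subgroup.mem_sup_right ⟨psiHom j h, Subgroup.mem_centralizer_singleton_iff.2
      ((innD_comm_iff hm σ _).2 ⟨1, ?_⟩), multHom_psiHom h1 j h⟩
    rw [one_smul, mt_psiHom]
    exact Matrix.ext fun p q => (hj _).2 ⟨_, rfl⟩
  · rintro _ ⟨a, rfl⟩
    exact Subgroup.mem_sup_left ⟨scalG a, by
      show innD m F (scalG a) ∈ Cfsg.Inn (PS m F)
      rw [innD_scalG hm]; exact one_mem _, hsq a⟩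

theorem gcd_two_geom {p d r : ℕ} (hp : p.Prime) (hd : 1 ≤ d) (hr : 1 ≤ r) :
    Nat.gcd 2 ((p ^ (d * r) - 1) / (p ^ d - 1)) = Nat.gcd (Nat.gcd 2 (p ^ (d * r) - 1)) r := by
  have hQ : 2 ≤ p ^ d := hp.two_le.trans (Nat.le_self_pow (by omega) p)
  rw [pow_mul, ← Nat.geomSum_eq hQ r]
  have hone : 1 ≤ (p ^ d) ^ r := Nat.one_le_pow _ _ (by omega)
  rcases hp.eq_two_or_odd' with hp2 | hodd
  · have he : 2 ∣ p ^ d := by rw [hp2]; exact dvd_pow_self 2 (by omega)
    have hE : ¬ 2 ∣ ∑ k ∈ Finset.range r, (p ^ d) ^ k := by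
      obtain ⟨s, rfl⟩ := Nat.exists_eq_add_of_le' hr
      rw [Finset.sum_range_succ', pow_zero]
      intro h
      have h1 : 2 ∣ ∑ k ∈ Finset.range s, (p ^ d) ^ (k + 1) :=
        Finset.dvd_sum fun k _ => he.trans (dvd_pow_self _ k.succ_ne_zero)
      have := (Nat.dvd_add_right h1).1 h
      omega
    have hP : ¬ 2 ∣ (p ^ d) ^ r - 1 := by
      have : 2 ∣ (p ^ d) ^ r := he.trans (dvd_pow_self _ (by omega))
      omega
    rw [(Nat.prime_two.coprime_iff_not_dvd.2 hE).gcd_eq_one,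
      (Nat.prime_two.coprime_iff_not_dvd.2 hP).gcd_eq_one, Nat.gcd_one_left]
  · have hQ2 : p ^ d % 2 = 1 := Nat.odd_iff.1 hodd.pow
    have hP : 2 ∣ (p ^ d) ^ r - 1 := by
      have : (p ^ d) ^ r % 2 = 1 := Nat.odd_iff.1 ((Nat.odd_iff.2 hQ2).pow)
      omega
    have hE : (∑ k ∈ Finset.range r, (p ^ d) ^ k) % 2 = r % 2 := by
      rw [Finset.sum_nat_mod]
      simp [Nat.pow_mod, hQ2]
    rw [Nat.gcd_eq_left hP, Nat.gcd_rec, hE, ← Nat.gcd_rec]

theorem field_full {p f : ℕ} [Fact p.Prime] (hF : Fintype.card F = p ^ f) (hf : 1 ≤ f) (hm : 2 ≤ m)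
    (x : MulAut (PS m F)) (hx : Cfsg.IsFieldAutClassPSp x) {r : ℕ} (hr : r.Prime) (hxr : orderOf x = r)
    (F₀ : Type*) [Field F₀] [Fintype F₀] (hF₀ : Fintype.card F₀ = p ^ (f / r)) :
    r ∣ f ∧ Nonempty (↥(Cfsg.inndiagPSp m F ⊓ Subgroup.centralizer {x}) ≃* Cfsg.PGSp m F₀) ∧
      Cfsg.splitClassCount (Cfsg.inndiagPSp m F) (Cfsg.Inn (PS m F)) x =
        Nat.gcd (Nat.gcd 2 (p ^ f - 1)) r := by
  obtain ⟨α, σ, hz⟩ := exists_conj_fieldH hx
  have hord := orderOf_sigma hm hz hxr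
  obtain ⟨hdvd, -⟩ := AutPSL.exists_fixed_field hF hf σ hord
  obtain ⟨j, hj⟩ := AutPSL.exists_fixed_embedding hF hf σ hord F₀ hF₀
  haveI : (Cfsg.Inn (PS m F)).Normal := AutPSL.inn_normal _
  haveI := innD_range_normal (F := F) hm
  rw [inndiagPSp_eq]
  refine ⟨hdvd, ?_, ?_⟩
  · obtain ⟨c⟩ := ClassSplit.nonempty_centralizer_conj (innD m F).range α x
    rw [hz] at c
    obtain ⟨e⟩ := nonempty_centralizer hm σ j hj
    exact ⟨c.trans e⟩
  · rw [← ClassSplit.splitClassCount_conj _ _ α, hz, splitClassCount_fieldH hm σ j hj]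
    obtain ⟨d, rfl⟩ := hdvd
    rw [mul_comm] at hF hF₀ hf ⊢
    rw [Nat.mul_div_cancel _ hr.pos] at hF₀
    have hq : p ^ d - 1 ∣ p ^ (d * r) - 1 := by
      have := Nat.sub_dvd_pow_sub_pow (p ^ d) 1 r
      rwa [one_pow, ← pow_mul] at this
    rw [AutPSL.units_range_eq F₀ j (E := (p ^ (d * r) - 1) / (p ^ d - 1))
      (by rw [hF₀, hF]; exact Nat.mul_div_cancel' hq),
      AutPSL.index_sup_range_pow (by rw [hF]; exact Nat.div_dvd_of_dvd hq),
      gcd_two_geom Fact.out (Nat.pos_of_ne_zero fun h0 => by simp [h0] at hf) hr.pos]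

end CfsgLib.Known.PSpSemi
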